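import Cfsg.Agent.H757.Sf.Basic
import Cfsg.Agent.H759.CentNormal
import Cfsg.Agent.H802.FusKSat
import Mathlib.GroupTheory.SpecificGroups.Quaternion

/-!
# S5176, section 3: the situation `Sit` from the hypotheses of the statement (helper757)

* `exists_qr` : coordinates in a generalized quaternion group;
* `weak_of`, `cen_of` : the fields `weak` and `cen` of `Sit`;
* `exists_sit_of` : `Sit` from the hypotheses, `foc` and `nz`.
-/

set_option autoImplicit false

open Cfsg Cfsg.FusionSystem Cfsg.Agent.H752 Cfsg.Agent.H784.SF Cfsg.Agent.H784.Q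

universe u

namespace Cfsg.Agent.H757.Sf

variable {Ω : Type u} [Group Ω] {S : Subgroup Ω} {F : FusionSystem S} {R : Subgroup Ω}

/-- Coordinates in a generalized quaternion group of order at least 16. -/
theorem exists_qr {k : ℕ} (hk : 2 ≤ k) (eR : ↥R ≃* QuaternionGroup (2 ^ k)) :
    ∃ a b z r : Ω, QR R a b z r (k + 1) := by
  have hn : (2 ^ k : ℕ) ≠ 0 := pow_ne_zero _ (by norm_num)
  have : NeZero (2 ^ k : ℕ) := ⟨hn⟩
  have h2k : 2 * 2 ^ k = 2 ^ (k + 1) := by rw [pow_succ, mul_comm]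
  set A : QuaternionGroup (2 ^ k) := QuaternionGroup.a 1 with hA
  set B : QuaternionGroup (2 ^ k) := QuaternionGroup.xa 0 with hB
  have hApow : ∀ i : ℕ, A ^ i = QuaternionGroup.a i := fun i => QuaternionGroup.a_one_pow i
  have hoA : orderOf A = 2 ^ (k + 1) := by
    rw [← h2k]
    exact QuaternionGroup.orderOf_a_one
  have hBB : B * B = A ^ 2 ^ k := by
    rw [hApow, hB, QuaternionGroup.xa_mul_xa]
    simp
  have hBA : B * A = A⁻¹ * B := by
    rw [eq_inv_mul_iff_mul_eq, hA, hB, QuaternionGroup.xa_mul_a, QuaternionGroup.a_mul_xa]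
    simp
  have hBz : B ∉ Subgroup.zpowers A := by
    rintro ⟨i, hi⟩
    have h1 : Commute B A := by
      rw [← hi]
      exact (Commute.refl A).zpow_left i
    have h2 : A * A = 1 := by
      have h3 := h1.eq
      rw [hBA] at h3
      have h4 : A⁻¹ = A := mul_right_cancel h3
      nth_rewrite 1 [← h4]
      exact inv_mul_cancel A
    have h5 : orderOf A ∣ 2 := orderOf_dvd_of_pow_eq_one (by rw [pow_two]; exact h2)
    rw [hoA] at h5
    have h6 := Nat.le_of_dvd (by norm_num) h5
    have h7 : 2 ^ 3 ≤ 2 ^ (k + 1) := Nat.pow_le_pow_right (by norm_num) (by omega)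
    omega
  have hgen : ∀ x : QuaternionGroup (2 ^ k), ∃ i : ℕ, x = A ^ i ∨ x = B * A ^ i := by
    intro x
    have : NeZero (2 * 2 ^ k : ℕ) := ⟨by positivity⟩
    rcases x with i | i
    · refine ⟨i.val, Or.inl ?_⟩
      rw [hApow, ZMod.natCast_zmod_val]
    · refine ⟨i.val, Or.inr ?_⟩
      rw [hApow, ZMod.natCast_zmod_val, hB, QuaternionGroup.xa_mul_a, zero_add]
  have hcoe : ∀ x : QuaternionGroup (2 ^ k), ∀ i : ℕ, ((eR.symm x : R) : Ω) ^ i = ((eR.symm (x ^ i) : R) : Ω) := by
    intro x i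
    rw [map_pow]
    rfl
  refine ⟨((eR.symm A : R) : Ω), ((eR.symm B : R) : Ω), ((eR.symm A : R) : Ω) ^ 2 ^ (k + 1 - 1),
    ((eR.symm A : R) : Ω) ^ 2 ^ (k + 1 - 2), ?_⟩
  exact
    { m3 := by omega
      aR := (eR.symm A).2
      bR := (eR.symm B).2
      oa := by rw [Subgroup.orderOf_coe, MulEquiv.orderOf_eq, hoA]
      hz := rfl
      hr := rfl
      bb := by
        rw [hcoe, Nat.add_sub_cancel, ← hBB, map_mul]
        rfl
      ba := by
        have h1 := congrArg (fun x => ((eR.symm x : R) : Ω)) hBA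
        simp only [map_mul, map_inv, Subgroup.coe_mul, Subgroup.coe_inv] at h1
        exact h1
      bA := by
        rintro ⟨i, hi⟩
        apply hBz
        refine ⟨i, ?_⟩
        apply eR.symm.injective
        apply Subtype.ext
        rw [← hi]
        show ((eR.symm (A ^ i) : R) : Ω) = ((eR.symm A : R) : Ω) ^ i
        rw [map_zpow]
        rfl
      gen := by
        intro x hx
        obtain ⟨i, hi⟩ := hgen (eR ⟨x, hx⟩)
        refine ⟨i, ?_⟩
        rcases hi with hi | hi
        · left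
          rw [hcoe, ← hi, MulEquiv.symm_apply_apply]
        · right
          rw [hcoe]
          have h1 : (⟨x, hx⟩ : R) = eR.symm (B * A ^ i) := by rw [← hi, MulEquiv.symm_apply_apply]
          have h2 := congrArg Subtype.val h1
          rw [map_mul] at h2
          exact h2 }

/-- the field `weak` -/
theorem weak_of (hW : F.WeaklyClosed R) : ∀ (P : Subgroup Ω) (f : Ω → Ω), Mp F P f → R ≤ P → ∀ x ∈ R, f x ∈ R := by
  intro P f hf hRP x hx
  obtain ⟨φ, hφ, h1⟩ := hf.res hRP
  have h2 := hW.2 φ hφ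
  have h3 : f x ∈ φ.range := ⟨⟨x, hx⟩, h1 x hx⟩
  rwa [h2] at h3

/-- the field `cen` -/
theorem cen_of (hC : ∀ y ∈ centralizerIn S R, orderOf y = 2 →
      ∀ C : FusionSystem (centralizerIn S (Subgroup.zpowers y)),
        F.IsCentralizerSystem (Subgroup.zpowers y) C → C.StronglyClosed R) :
    ∀ y ∈ centralizerIn S R, y * y = 1 → y ≠ 1 → ∀ (P : Subgroup Ω) (f : Ω → Ω), Mp F P f → y ∈ P → f y = y →
      ∀ x ∈ R, x ∈ P → f x ∈ R := by
  intro y hy hyy hy1 P f hf hyP hfy x hxR hxP
  have hy2 : orderOf y = 2 := orderOf_eq_prime (by rw [pow_two]; exact hyy) hy1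
  have hyS : y ∈ S := hy.1
  have hzS : Subgroup.zpowers y ≤ S := by rw [Subgroup.zpowers_le]; exact hyS
  obtain ⟨C, hCs⟩ := H802.exists_centralizerSystem F hzS
  have hsc := hC y hy hy2 C hCs
  have hxy : x * y = y * x := Subgroup.mem_centralizer_iff.1 hy.2 x hxR
  have hle : Subgroup.zpowers x ⊔ Subgroup.zpowers y ≤ P := by
    rw [sup_le_iff, Subgroup.zpowers_le, Subgroup.zpowers_le]
    exact ⟨hxP, hyP⟩
  have hcent : ∀ s ∈ P, s * y = y * s → s ∈ centralizerIn S (Subgroup.zpowers y) ∧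
      f s ∈ centralizerIn S (Subgroup.zpowers y) := by
    intro s hs hsy
    have h1 : f s * y = y * f s := by
      have h2 := hf.mul hs hyP
      have h3 := hf.mul hyP hs
      rw [hsy, h3, hfy] at h2
      exact h2.symm
    refine ⟨⟨hf.le hs, ?_⟩, ⟨hf.mem hs, ?_⟩⟩
    · refine Subgroup.mem_centralizer_iff.2 ?_
      rintro _ ⟨n, rfl⟩
      have h4 : Commute y s := hsy.symm
      exact (h4.zpow_left n).eq
    · refine Subgroup.mem_centralizer_iff.2 ?_
      rintro _ ⟨n, rfl⟩
      have h4 : Commute y (f s) := h1.symm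
      exact (h4.zpow_left n).eq
  have hm : Mp C (Subgroup.zpowers x) f := by
    rw [H759.mp_centralizer_iff hCs]
    have h5 : ∀ s ∈ Subgroup.zpowers x, s ∈ P ∧ s * y = y * s := by
      rintro _ ⟨n, rfl⟩
      have h4 : Commute x y := hxy
      exact ⟨zpow_mem hxP n, (h4.zpow_left n).eq⟩
    refine ⟨fun s hs => (hcent s (h5 s hs).1 (h5 s hs).2).1, fun s hs => (hcent s (h5 s hs).1 (h5 s hs).2).2,
      f, hf.res hle, fun _ _ => rfl, ?_⟩
    intro t ht
    rcases (Subgroup.mem_zpowers_iff.1 ht) with ⟨n, rfl⟩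
    obtain ⟨φ, hφ, h3⟩ := hf
    have hzn : y ^ n ∈ P := zpow_mem hyP n
    rw [← h3 _ hzn]
    have e2 : (⟨y ^ n, hzn⟩ : P) = ⟨y, hyP⟩ ^ n := rfl
    rw [e2, map_zpow, h3 y hyP, hfy]
  exact mp_mem_of_stronglyClosed hsc hm (Subgroup.mem_zpowers x) hxR

/-- `Sit` from the hypotheses of S5176, `foc` and `nz`. -/
theorem exists_sit_of (hS : IsPGroup 2 S) (hsat : F.IsSaturated 2) (hRS : R ≤ S) (n : ℕ) (hk : 2 ≤ n)
    (eR : ↥R ≃* QuaternionGroup (2 ^ n)) (hW : F.WeaklyClosed R)
    (hC : ∀ y ∈ centralizerIn S R, orderOf y = 2 →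
      ∀ C : FusionSystem (centralizerIn S (Subgroup.zpowers y)),
        F.IsCentralizerSystem (Subgroup.zpowers y) C → C.StronglyClosed R)
    (foc : F.focalSubgroup = S)
    (nz : ∀ z ∈ S, z * z = 1 → z ≠ 1 → (∀ s ∈ S, s * z = z * s) → ∃ t, t ≠ z ∧ CE F z t) :
    ∃ a b z r m, Sit F R a b z r m := by
  obtain ⟨a, b, z, r, q⟩ := exists_qr hk eR
  refine ⟨a, b, z, r, n + 1, ?_⟩
  exact
    { qr := q
      hS := hS
      sat := hsat
      RS := hRS
      weak := weak_of hW
      cen := cen_of hC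
      foc := foc
      nz := by
        refine nz z (hRS q.zR) q.zz q.z_ne ?_
        intro s hs
        -- `s` normalizes `R`, so centralizes its involution
        have h1 : s * z * s⁻¹ ∈ R := weak_of hW R _ (mp_conj F hRS hs) le_rfl z q.zR
        have h2 : s * z * s⁻¹ = z := by
          refine q.uniq h1 ?_ ?_
          · rw [show s * z * s⁻¹ * (s * z * s⁻¹) = s * (z * z) * s⁻¹ by group, q.zz]
            group
          · intro h3
            apply q.z_ne
            rw [mul_inv_eq_one] at h3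
            exact mul_eq_left.mp h3
        rw [mul_inv_eq_iff_eq_mul] at h2
        exact h2 }

end Cfsg.Agent.H757.Sf
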