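import Cfsg.Agent.H757.Sf.Basic

/-! # S5176, section 1: fact (G) (plan: tools/plans/S5176.md) -/
set_option autoImplicit false
set_option linter.unusedSectionVars false

open Cfsg Cfsg.FusionSystem Cfsg.Agent.H752 Cfsg.Agent.H784.SF Cfsg.Agent.H784.Q

universe u

namespace Cfsg.Agent.H784.Q

variable {Ω : Type u} [Group Ω] {S : Subgroup Ω} [Finite S] {F : FusionSystem S} {R : Subgroup Ω} {a b z r : Ω} {m : ℕ}

/-- extension of a map of an abelian `P` onto a receptive `Q` to the centralizers. -/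
theorem extend_receptive {P Q : Subgroup Ω} (hQ : F.IsReceptive Q) (hP : P ≤ centralizerIn S P) {f : Ω → Ω} (hf : Mp F P f)
    (h1 : ∀ x ∈ P, f x ∈ Q) (h2 : ∀ y ∈ Q, ∃ x ∈ P, f x = y) :
    ∃ ψ, Mp F (centralizerIn S P) ψ ∧ (∀ x ∈ P, ψ x = f x) ∧ ∀ x ∈ centralizerIn S P, ψ x ∈ centralizerIn S Q := by
  obtain ⟨φ, hφ, hφf⟩ := hf
  have hrange : φ.range = Q := by
    ext w
    constructor
    · rintro ⟨⟨x, hx⟩, rfl⟩
      rw [hφf]; exact h1 x hx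
    · intro hw
      obtain ⟨x, hx, rfl⟩ := h2 w hw
      exact ⟨⟨x, hx⟩, hφf x hx⟩
  obtain ⟨ψ, hψ, h3⟩ := hQ.2 P φ hφ hrange
  have hle := H802.centralizerIn_le_extender S P φ
  have hmp : Mp F (centralizerIn S P) (ex ψ) := (mp_ex hψ).res hle
  have hext : ∀ x ∈ P, ex ψ x = f x := fun x hx => by
    rw [ex_apply _ (hle (hP hx)), h3 x hx (hle (hP hx)), hφf]
  refine ⟨ex ψ, hmp, hext, fun x hx => ?_⟩
  refine mem_centK.mpr ⟨hmp.mem hx, fun y hy => ?_⟩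
  obtain ⟨p, hp, rfl⟩ := h2 y hy
  rw [← hext p hp, ← hmp.mul hx (hP hp), ← hmp.mul (hP hp) hx, (mem_centK.mp hx).2 p hp]

theorem mp_iterate {P : Subgroup Ω} {f : Ω → Ω} (hf : Mp F P f) (hm : ∀ x ∈ P, f x ∈ P) (n : ℕ) :
    Mp F P f^[n] ∧ ∀ x ∈ P, f^[n] x ∈ P := by
  induction n with
  | zero => exact ⟨mp_id F hf.le, fun x hx => hx⟩
  | succ n ih =>
    have h1 : f^[n + 1] = fun x => f (f^[n] x) := by
      funext x; exact Function.iterate_succ_apply' f n x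
    rw [h1]
    exact ⟨ih.1.comp hf ih.2, fun x hx => hm _ (ih.2 x hx)⟩

/-- some power of the form `f^(4^k)` has odd order. -/
theorem exists_odd_iterate {P : Subgroup Ω} {f : Ω → Ω} (hf : Mp F P f) (hm : ∀ x ∈ P, f x ∈ P) :
    ∃ k n : ℕ, Odd n ∧ ∀ x ∈ P, (f^[4 ^ k])^[n] x = x := by
  have hfin : Finite P := H802.finite_of_le hf.le
  obtain ⟨α, -, hα⟩ := hf.exists_aut hm
  have hit : ∀ (N : ℕ) (x : Ω) (hx : x ∈ P), f^[N] x = ((α ^ N) ⟨x, hx⟩ : P) := by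
    intro N
    induction N with
    | zero => intro x hx; rfl
    | succ N ih =>
      intro x hx
      rw [Function.iterate_succ_apply', ih x hx, hα _ (Subtype.coe_prop _), pow_succ', MulAut.mul_apply]
  have hpos : orderOf α ≠ 0 := (orderOf_pos α).ne'
  obtain ⟨k, n, hn, hk⟩ := Nat.exists_eq_two_pow_mul_odd hpos
  refine ⟨k, n, hn, fun x hx => ?_⟩
  rw [← Function.iterate_mul, hit _ x hx]
  have h1 : α ^ (4 ^ k * n) = 1 := by
    rw [← orderOf_dvd_iff_pow_eq_one, hk]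
    exact Nat.mul_dvd_mul_right (pow_dvd_pow_of_dvd (by norm_num) k) n
  rw [h1]
  rfl

variable (h : Sit F R a b z r m)
include h

theorem Sit.zt_comm {t : Ω} (ht : t ∈ S) : Commute z t := (h.z_centr t ht).symm

theorem Sit.mem_V {t : Ω} (ht : CE F z t) {x : Ω} (hx : x ∈ Subgroup.zpowers z ⊔ Subgroup.zpowers t) :
    x = 1 ∨ x = z ∨ x = t ∨ x = t * z := by
  have hc := h.zt_comm (ce_right ht)
  let V : Subgroup Ω :=
    { carrier := {x | ∃ i j : ℕ, x = t ^ i * z ^ j}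
      one_mem' := ⟨0, 0, by simp⟩
      mul_mem' := by
        rintro _ _ ⟨i, j, rfl⟩ ⟨i', j', rfl⟩
        refine ⟨i + i', j + j', ?_⟩
        rw [pow_add, pow_add]
        have h1 : z ^ j * t ^ i' = t ^ i' * z ^ j := (hc.pow_pow j i')
        calc t ^ i * z ^ j * (t ^ i' * z ^ j') = t ^ i * (z ^ j * t ^ i') * z ^ j' := by group
          _ = t ^ i * t ^ i' * (z ^ j * z ^ j') := by rw [h1]; group
      inv_mem' := by
        rintro _ ⟨i, j, rfl⟩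
        refine ⟨i, j, ?_⟩
        have h1 : z ^ j * t ^ i = t ^ i * z ^ j := (hc.pow_pow j i)
        have ht1 : (t ^ i)⁻¹ = t ^ i := by
          rw [← inv_pow, inv_eq_of_mul_eq_one_right (h.tt ht)]
        have hz1 : (z ^ j)⁻¹ = z ^ j := by rw [← inv_pow, h.qr.zinv]
        rw [mul_inv_rev, ht1, hz1, h1] }
  have hV : Subgroup.zpowers z ⊔ Subgroup.zpowers t ≤ V :=
    mem_sup_zpowers ⟨0, 1, by simp⟩ ⟨1, 0, by simp⟩
  obtain ⟨i, j, rfl⟩ := hV hx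
  have ht2 : t ^ 2 = 1 := by rw [pow_two, h.tt ht]
  have hz2 : z ^ 2 = 1 := by rw [pow_two, h.qr.zz]
  rcases Nat.even_or_odd' i with ⟨k, rfl | rfl⟩ <;> rcases Nat.even_or_odd' j with ⟨l, rfl | rfl⟩ <;>
    simp [pow_succ, pow_mul, ht2, hz2]

theorem Sit.V_le {t : Ω} (ht : CE F z t) : Subgroup.zpowers z ⊔ Subgroup.zpowers t ≤ S :=
  mem_sup_zpowers h.zS (ce_right ht)

theorem Sit.CSV {t : Ω} (ht : CE F z t) : centralizerIn S (Subgroup.zpowers z ⊔ Subgroup.zpowers t) = CS S t := by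
  apply le_antisymm
  · intro s hs
    obtain ⟨h1, h2⟩ := mem_centK.mp hs
    exact mem_cent.mpr ⟨h1, h2 t (Subgroup.mem_sup_right (Subgroup.mem_zpowers t))⟩
  · intro s hs
    obtain ⟨h1, h2⟩ := mem_cent.mp hs
    have h3 := h.z_centr s h1
    refine mem_centK.mpr ⟨h1, fun x hx => ?_⟩
    rcases h.mem_V ht hx with rfl | rfl | rfl | rfl
    · rw [mul_one, one_mul]
    · exact h3
    · exact h2
    · rw [← mul_assoc, h2, mul_assoc, h3, mul_assoc]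

theorem Sit.V_ab {t : Ω} (ht : CE F z t) :
    Subgroup.zpowers z ⊔ Subgroup.zpowers t ≤ centralizerIn S (Subgroup.zpowers z ⊔ Subgroup.zpowers t) := by
  rw [h.CSV ht]
  exact mem_sup_zpowers (mem_cent.mpr ⟨h.zS, h.zt_comm (ce_right ht)⟩) (mem_cent.mpr ⟨ce_right ht, rfl⟩)

/-- the 3-cycle of `⟨z, t⟩`. -/
theorem Sit.three_cycle {t : Ω} (ht : CE F z t) (hne : t ≠ z) :
    ∃ γ, Mp F (Subgroup.zpowers z ⊔ Subgroup.zpowers t) γ ∧ γ z = t ∧ γ t = t * z := by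
  have htS := ce_right ht
  obtain ⟨ρ, hρ, hρt⟩ := h.factF ht hne
  obtain ⟨φ, hφ, hφt⟩ := h.toZ ht.symm
  have hzC : z ∈ CS S t := mem_cent.mpr ⟨h.zS, h.zt_comm htS⟩
  have htC : t ∈ CS S t := mem_cent.mpr ⟨htS, rfl⟩
  have hu : CE F z (φ z) := CE.of_mp hφ hzC
  have hune : φ z ≠ z := fun h1 => hne (hφ.inj htC hzC (hφt.trans h1.symm))
  obtain ⟨ρ', hρ', hρu⟩ := h.factF hu hune
  have hVC : Subgroup.zpowers z ⊔ Subgroup.zpowers t ≤ CS S t := mem_sup_zpowers hzC htC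
  have hzV : z ∈ Subgroup.zpowers z ⊔ Subgroup.zpowers t := Subgroup.mem_sup_left (Subgroup.mem_zpowers z)
  have htV : t ∈ Subgroup.zpowers z ⊔ Subgroup.zpowers t := Subgroup.mem_sup_right (Subgroup.mem_zpowers t)
  obtain ⟨T, hT, -, -⟩ := hφ.exists_image hVC
  obtain ⟨g, hg, hg1, hg2⟩ := hφ.exists_symm hVC hT
  have hz1 : ρ'⁻¹ * z * ρ' = z := by
    rw [mul_assoc, ← h.z_centr ρ' (h.RS hρ')]; group
  have hzT : z ∈ T := (hT z).mpr ⟨t, htV, hφt⟩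
  have huT : φ z ∈ T := (hT _).mpr ⟨z, hzV, rfl⟩
  -- conjugation by `ρ'` on `V^φ`
  have hm : ∀ x ∈ Subgroup.zpowers z ⊔ Subgroup.zpowers t, ρ'⁻¹ * φ x * ρ'⁻¹⁻¹ ∈ T := by
    intro x hx
    rw [inv_inv]
    rcases h.mem_V ht hx with rfl | rfl | rfl | rfl
    · rw [hφ.one]; simp
    · rw [hρu]; exact mul_mem huT hzT
    · rw [hφt, hz1]; exact hzT
    · rw [hφ.mul htC hzC, hφt]
      have h1 : ρ'⁻¹ * (z * φ z) * ρ' = ρ'⁻¹ * z * ρ' * (ρ'⁻¹ * φ z * ρ') := by group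
      rw [h1, hz1, hρu]
      exact mul_mem hzT (mul_mem huT hzT)
  have hσ := (((hφ.res hVC).comp (mp_conj F le_rfl (inv_mem (h.RS hρ'))) (fun x hx => (hφ.res hVC).mem hx)).comp hg hm)
  have hγ := hσ.comp (mp_conj F le_rfl (inv_mem (h.RS hρ))) (fun x hx => hσ.mem hx)
  have hz2 : ρ⁻¹ * z * ρ = z := by
    rw [mul_assoc, ← h.z_centr ρ (h.RS hρ)]; group
  refine ⟨_, hγ, ?_, ?_⟩
  · show ρ⁻¹ * g (ρ'⁻¹ * φ z * ρ'⁻¹⁻¹) * ρ⁻¹⁻¹ = t
    rw [inv_inv, inv_inv, hρu]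
    have h1 : g (φ z * z) = z * t := by
      have h2 : φ z * z = φ (z * t) := by rw [hφ.mul hzC htC, hφt]
      rw [h2]; exact hg1 _ (mul_mem hzV htV)
    rw [h1]
    have h2 : ρ⁻¹ * (z * t) * ρ = ρ⁻¹ * z * ρ * (ρ⁻¹ * t * ρ) := by group
    rw [h2, hz2, hρt, ← mul_assoc, (h.zt_comm htS).eq, mul_assoc, h.qr.zz, mul_one]
  · show ρ⁻¹ * g (ρ'⁻¹ * φ t * ρ'⁻¹⁻¹) * ρ⁻¹⁻¹ = t * z
    rw [inv_inv, inv_inv, hφt, hz1]
    have h1 : g z = t := by have := hg1 t htV; rwa [hφt] at this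
    rw [h1, hρt]

theorem Sit.factG {t : Ω} (ht : CE F z t) (hne : t ≠ z) : ∃ (ψ β : Ω → Ω),
    Mp F (CS S t) ψ ∧ ψ z = z ∧ VD F z (ψ t) β ∧ ∀ x ∈ CS S t, ψ x ∈ CS S (ψ t) := by
  have htS := ce_right ht
  have hzV : z ∈ Subgroup.zpowers z ⊔ Subgroup.zpowers t := Subgroup.mem_sup_left (Subgroup.mem_zpowers z)
  have htV : t ∈ Subgroup.zpowers z ⊔ Subgroup.zpowers t := Subgroup.mem_sup_right (Subgroup.mem_zpowers t)
  have hzC : z ∈ CS S t := mem_cent.mpr ⟨h.zS, h.zt_comm htS⟩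
  have htC : t ∈ CS S t := mem_cent.mpr ⟨htS, rfl⟩
  -- a receptive conjugate of `V`
  obtain ⟨Q, ⟨χ₀, hχ₀, hχR⟩, -, hrec⟩ := h.sat _ (h.V_le ht)
  have hχm := mp_ex hχ₀
  have hQ1 : ∀ x ∈ Subgroup.zpowers z ⊔ Subgroup.zpowers t, ex χ₀ x ∈ Q := by
    intro x hx
    rw [ex_apply _ hx, ← hχR]; exact ⟨_, rfl⟩
  have hQ2 : ∀ y ∈ Q, ∃ x ∈ Subgroup.zpowers z ⊔ Subgroup.zpowers t, ex χ₀ x = y := by
    intro y hy
    rw [← hχR] at hy
    obtain ⟨x, rfl⟩ := hy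
    exact ⟨x, x.2, ex_coe _ x⟩
  obtain ⟨χ, hχ, hχe, hχC⟩ := extend_receptive hrec (h.V_ab ht) hχm hQ1 hQ2
  rw [h.CSV ht] at hχ hχC
  -- send `χ z` to `z`
  have hu : CE F z (χ z) := CE.of_mp hχ hzC
  obtain ⟨φ, hφ, hφu⟩ := h.toZ hu.symm
  have hzQ : χ z ∈ Q := by rw [hχe z hzV]; exact hQ1 z hzV
  have htQ : χ t ∈ Q := by rw [hχe t htV]; exact hQ1 t htV
  have hQC : centralizerIn S Q ≤ CS S (χ z) := fun s hs => mem_cent.mpr ⟨(mem_centK.mp hs).1, (mem_centK.mp hs).2 _ hzQ⟩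
  have hψ := hχ.comp hφ (fun x hx => hQC (hχC x hx))
  -- `t' = ψ t`
  obtain ⟨t', ht'⟩ : ∃ t', t' = φ (χ t) := ⟨_, rfl⟩
  have hCt' : CE F z t' := by
    rw [ht']
    exact ht.trans (CE.of_mp hψ htC)
  have hne' : t' ≠ z := by
    intro h1
    apply hne
    refine hψ.inj htC hzC ?_
    simp only [← ht', h1, hφu]
  have ht'S := ce_right hCt'
  have hzC' : z ∈ CS S t' := mem_cent.mpr ⟨h.zS, h.zt_comm ht'S⟩
  have htC' : t' ∈ CS S t' := mem_cent.mpr ⟨ht'S, rfl⟩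
  have hzV' : z ∈ Subgroup.zpowers z ⊔ Subgroup.zpowers t' := Subgroup.mem_sup_left (Subgroup.mem_zpowers z)
  have htV' : t' ∈ Subgroup.zpowers z ⊔ Subgroup.zpowers t' := Subgroup.mem_sup_right (Subgroup.mem_zpowers t')
  -- `Q ≤ C_S(χ z)`, `φ(Q) = V' := ⟨z, t'⟩`
  have hQle : Q ≤ CS S (χ z) := by
    intro y hy
    obtain ⟨x, hx, hxy⟩ := hQ2 y hy
    rw [← hxy, ← hχe x hx]
    have hxC : x ∈ CS S t := by rw [← h.CSV ht]; exact h.V_ab ht hx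
    exact hQC (hχC x hxC)
  have hφQ : ∀ x ∈ Subgroup.zpowers z ⊔ Subgroup.zpowers t', ∃ y ∈ Q, φ y = x := by
    intro x hx
    rcases h.mem_V hCt' hx with rfl | rfl | rfl | rfl
    · exact ⟨1, one_mem _, hφ.one⟩
    · exact ⟨_, hzQ, hφu⟩
    · exact ⟨_, htQ, ht'.symm⟩
    · exact ⟨_, mul_mem htQ hzQ, by rw [hφ.mul (hQle htQ) (hQle hzQ), hφu, ← ht']⟩
  have hφQ' : ∀ y ∈ Q, φ y ∈ Subgroup.zpowers z ⊔ Subgroup.zpowers t' := by
    intro y hy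
    obtain ⟨x, hx, rfl⟩ := hQ2 y hy
    rw [← hχe x hx]
    rcases h.mem_V ht hx with rfl | rfl | rfl | rfl
    · rw [hχ.one, hφ.one]; exact one_mem _
    · rw [hφu]; exact hzV'
    · rw [← ht']; exact htV'
    · rw [hχ.mul htC hzC, hφ.mul (hQle htQ) (hQle hzQ), hφu, ← ht']; exact mul_mem htV' hzV'
  obtain ⟨g, hg, hg1, hg2⟩ := hφ.exists_symm hQle (T := Subgroup.zpowers z ⊔ Subgroup.zpowers t') fun y =>
    ⟨fun hy => hφQ y hy, fun ⟨x, hx, hxy⟩ => hxy ▸ hφQ' x hx⟩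
  -- the 3-cycle on `V'`
  obtain ⟨γ, hγ, hγz, hγt⟩ := h.three_cycle hCt' hne'
  have hγm : ∀ x ∈ Subgroup.zpowers z ⊔ Subgroup.zpowers t', γ x ∈ Subgroup.zpowers z ⊔ Subgroup.zpowers t' := by
    intro x hx
    rcases h.mem_V hCt' hx with rfl | rfl | rfl | rfl
    · rw [hγ.one]; exact one_mem _
    · rw [hγz]; exact htV'
    · rw [hγt]; exact mul_mem htV' hzV'
    · rw [hγ.mul htV' hzV', hγz, hγt]; exact mul_mem (mul_mem htV' hzV') htV'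
  have hfin' : Finite (Subgroup.zpowers z ⊔ Subgroup.zpowers t' : Subgroup Ω) := H802.finite_of_le (h.V_le hCt')
  have hκ := hγ.comp hg hγm
  obtain ⟨κ, hκm, hκe, hκC⟩ := extend_receptive hrec (h.V_ab hCt') hκ (fun x hx => (hg2 _ (hγm x hx)).1) (by
    intro y hy
    obtain ⟨x, hx, hxy⟩ := hγ.surj hγm (hφQ' y hy)
    refine ⟨x, hx, ?_⟩
    show g (γ x) = y
    rw [hxy]
    exact hg1 y hy)
  rw [h.CSV hCt'] at hκm hκC
  -- `β₁ = φ ∘ κ`
  have hβ1 := hκm.comp hφ (fun x hx => hQC (hκC x hx))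
  have hβe : ∀ x ∈ Subgroup.zpowers z ⊔ Subgroup.zpowers t', φ (κ x) = γ x := by
    intro x hx
    rw [hκe x hx]
    exact (hg2 _ (hγm x hx)).2
  have hβC : ∀ x ∈ CS S t', φ (κ x) ∈ CS S t' := by
    intro x hx
    refine mem_cent.mpr ⟨hβ1.mem hx, ?_⟩
    rw [ht']
    have h1 := hκC x hx
    rw [← hφ.mul (hQC h1) (hQle htQ), ← hφ.mul (hQle htQ) (hQC h1), (mem_centK.mp h1).2 _ htQ]
  obtain ⟨k, n, hn, hodd⟩ := exists_odd_iterate hβ1 hβC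
  obtain ⟨hβm, hβm'⟩ := mp_iterate hβ1 hβC (4 ^ k)
  -- the powers of the 3-cycle
  have hz1 : φ (κ z) = t' := (hβe z hzV').trans hγz
  have ht1 : φ (κ t') = t' * z := (hβe t' htV').trans hγt
  have htz1 : φ (κ (t' * z)) = z := by
    rw [hβe _ (mul_mem htV' hzV'), hγ.mul htV' hzV', hγz, hγt, (h.zt_comm ht'S).symm.eq, mul_assoc, h.tt hCt', mul_one]
  have h3 : ∀ N : ℕ, (fun x => φ (κ x))^[3 * N] z = z ∧ (fun x => φ (κ x))^[3 * N] t' = t' := by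
    intro N
    induction N with
    | zero => exact ⟨rfl, rfl⟩
    | succ N ih =>
      rw [show 3 * (N + 1) = 3 * N + 1 + 1 + 1 by ring]
      constructor
      · rw [Function.iterate_succ_apply', Function.iterate_succ_apply', Function.iterate_succ_apply', ih.1, hz1, ht1, htz1]
      · rw [Function.iterate_succ_apply', Function.iterate_succ_apply', Function.iterate_succ_apply', ih.2, ht1, htz1, hz1]
  have h4 : ∀ k : ℕ, ∃ N, 4 ^ k = 3 * N + 1 := by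
    intro k
    induction k with
    | zero => exact ⟨0, rfl⟩
    | succ k ih =>
      obtain ⟨N, hN⟩ := ih
      exact ⟨4 * N + 1, by rw [pow_succ, hN]; ring⟩
  obtain ⟨N, hN⟩ := h4 k
  have hβz : (fun x => φ (κ x))^[4 ^ k] z = t' := by
    rw [hN, Function.iterate_succ_apply', (h3 N).1, hz1]
  have hβt : (fun x => φ (κ x))^[4 ^ k] t' = t' * z := by
    rw [hN, Function.iterate_succ_apply', (h3 N).2, ht1]
  have hfinC : Finite (CS S t') := H802.finite_of_le inf_le_left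
  refine ⟨fun x => φ (χ x), (fun x => φ (κ x))^[4 ^ k], hψ, hφu, ?_, ?_⟩
  · show VD F z (φ (χ t)) _
    rw [← ht']
    exact ⟨hCt', hne', hβm, hβm', fun x hx => hβm.surj hβm' hx, hβz, hβt, n, hn, hodd⟩
  · intro x hx
    show φ (χ x) ∈ CS S (φ (χ t))
    have h1 := hψ.mul hx htC
    have h2 := hψ.mul htC hx
    rw [(mem_cent.mp hx).2] at h1
    exact mem_cent.mpr ⟨hψ.mem hx, h1.symm.trans h2⟩

end Cfsg.Agent.H784.Q
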